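import Groth.Agent.Lib.SiteCoh.Rpush
import Groth.Agent.Lib.RDComp.Post
import Groth.Agent.Lib.ExtDerived.Natural
import Mathlib.CategoryTheory.Sites.LocallyBijective

/-! Higher direct images commute with a colimit when cohomology does on a covering class. -/

set_option autoImplicit false
set_option linter.style.haveILetI false
set_option linter.unusedSectionVars false
set_option backward.isDefEq.respectTransparency false
set_option backward.isDefEq.respectTransparency.types false

universe u

open CategoryTheory CategoryTheory.Limits Opposite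

noncomputable section

namespace Groth.Agent.RpushColim16

variable {C D : Type u} [SmallCategory C] [SmallCategory D] {J : GrothendieckTopology C}
  (K : GrothendieckTopology D) (u : D ⥤ C) [u.IsContinuous K J]

/-- The direct image of presheaves. -/
abbrev pushP (J : GrothendieckTopology C) : Sheaf J AddCommGrpCat.{u} ⥤ Dᵒᵖ ⥤ AddCommGrpCat.{u} :=
  sheafToPresheaf J AddCommGrpCat.{u} ⋙ (Functor.whiskeringLeft Dᵒᵖ Cᵒᵖ AddCommGrpCat.{u}).obj u.op

instance additive_pushP : (pushP u J).Additive where

/-- Sections as maps out of the free sheaf. -/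
def sectIso (U : C) :
    sheafToPresheaf J AddCommGrpCat.{u} ⋙ (evaluation Cᵒᵖ AddCommGrpCat.{u}).obj (op U) ≅
      preadditiveCoyoneda.obj (op (SiteCoh.fr J U)) :=
  NatIso.ofComponents (fun F => AddEquiv.toAddCommGrpIso
    (show F.obj.obj (op U) ≃+ (SiteCoh.fr J U ⟶ F) from
      (AddEquiv.mk' (SiteCoh.secEquiv U F) (SiteCoh.secEquiv_add U)).symm))
    fun {F G} φ => by
      ext x
      apply (SiteCoh.secEquiv U G).injective
      show SiteCoh.secEquiv U G ((SiteCoh.secEquiv U G).symm (φ.hom.app (op U) x)) =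
        SiteCoh.secEquiv U G ((SiteCoh.secEquiv U F).symm x ≫ φ)
      rw [Equiv.apply_symm_apply, SiteCoh.secEquiv_comp, Equiv.apply_symm_apply]

variable [HasExt.{u} (Sheaf J AddCommGrpCat.{u})]

/-- The derived presheaf direct image, evaluated, is cohomology. -/
def evalIso (p : ℕ) (V : D) :
    (pushP u J).rightDerived p ⋙ (evaluation Dᵒᵖ AddCommGrpCat.{u}).obj (op V) ≅
      (Sheaf.cohomologyPresheafFunctor J p).flip.obj (op (u.obj V)) :=
  (RDComp.rightDerivedPostIso (pushP u J) ((evaluation Dᵒᵖ AddCommGrpCat.{u}).obj (op V)) p).symm ≪≫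
    ExtDerived.rightDerivedMapIso p (sectIso (u.obj V)) ≪≫
    ExtDerived.rightDerivedCoyonedaNatIso (SiteCoh.fr J (u.obj V)) p

/-- Higher direct images as sheafified presheaves, naturally. -/
def rpushIso (p : ℕ) :
    (pushP u J).rightDerived p ⋙ presheafToSheaf K AddCommGrpCat.{u} ≅ CohSite.Rpush J K u p :=
  (RDComp.rightDerivedPostIso (pushP u J) (presheafToSheaf K AddCommGrpCat.{u}) p).symm ≪≫
    ExtDerived.rightDerivedMapIso p
      ((Functor.isoWhiskerLeft (CohSite.push J K u) (asIso (sheafificationAdjunction K AddCommGrpCat.{u}).counit) :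
        pushP u J ⋙ presheafToSheaf K AddCommGrpCat.{u} ≅ CohSite.push J K u))

theorem preservesColimit_rpush {ι : Type u} [SmallCategory ι] (F : ι ⥤ Sheaf J AddCommGrpCat.{u}) (p : ℕ)
    (h : ∀ V : D, ∃ (κ : Type u) (Y : κ → D) (g : ∀ k, Y k ⟶ V), Sieve.ofArrows Y g ∈ K V ∧
      ∀ k, PreservesColimit F ((Sheaf.cohomologyPresheafFunctor J p).flip.obj (op (u.obj (Y k))))) :
    PreservesColimit F (CohSite.Rpush J K u p) := by
  haveI : PreservesColimit F ((pushP u J).rightDerived p ⋙ presheafToSheaf K AddCommGrpCat.{u}) := by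
    refine ⟨fun {c} hc => ⟨?_⟩⟩
    let Q := (pushP u J).rightDerived p
    let a := presheafToSheaf K AddCommGrpCat.{u}
    let d := colimit.cocone (F ⋙ Q)
    let φ : d.pt ⟶ Q.obj c.pt := colimit.desc (F ⋙ Q) (Q.mapCocone c)
    have hloc : ∀ Y : D, PreservesColimit F ((Sheaf.cohomologyPresheafFunctor J p).flip.obj (op (u.obj Y))) →
        Function.Bijective (φ.app (op Y)) := by
      intro Y hY
      let ev := (evaluation Dᵒᵖ AddCommGrpCat.{u}).obj (op Y)
      haveI : PreservesColimit F (Q ⋙ ev) := preservesColimit_of_natIso F (evalIso u p Y).symm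
      have hd : IsColimit (ev.mapCocone d) := isColimitOfPreserves ev (colimit.isColimit _)
      have hQ : IsColimit ((Q ⋙ ev).mapCocone c) := isColimitOfPreserves _ hc
      have e : φ.app (op Y) = (hd.coconePointUniqueUpToIso hQ).hom := hd.hom_ext fun j => by
        rw [hd.comp_coconePointUniqueUpToIso_hom]
        exact NatTrans.congr_app (colimit.ι_desc (Q.mapCocone c) j) (op Y)
      haveI : IsIso (φ.app (op Y)) := by rw [e]; infer_instance
      exact (ConcreteCategory.isIso_iff_bijective _).1 inferInstance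
    haveI : IsIso (a.map φ) := by
      rw [← K.W_iff, GrothendieckTopology.W_iff_isLocallyBijective]
      refine ⟨⟨fun {V} x y hxy => ?_⟩, ⟨fun {V} s => ?_⟩⟩
      · obtain ⟨κ, Z, g, hg, hY⟩ := h V.unop
        refine K.superset_covering ?_ hg
        rw [Sieve.ofArrows, Sieve.generate_le_iff]
        rintro W f ⟨k⟩
        show d.pt.map (g k).op x = d.pt.map (g k).op y
        apply (hloc (Z k) (hY k)).1
        rw [NatTrans.naturality_apply, NatTrans.naturality_apply, hxy]
      · obtain ⟨κ, Z, g, hg, hY⟩ := h V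
        refine K.superset_covering ?_ hg
        rw [Sieve.ofArrows, Sieve.generate_le_iff]
        rintro W f ⟨k⟩
        exact (hloc (Z k) (hY k)).2 _
    have ha : IsColimit (a.mapCocone d) := isColimitOfPreserves a (colimit.isColimit _)
    refine IsColimit.ofIsoColimit ha (Cocone.ext (asIso (a.map φ)) fun j => ?_)
    show a.map (d.ι.app j) ≫ a.map φ = a.map (Q.map (c.ι.app j))
    rw [← a.map_comp]
    exact congrArg a.map (colimit.ι_desc (Q.mapCocone c) j)
  exact preservesColimit_of_natIso F (rpushIso K u p)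

end Groth.Agent.RpushColim16
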